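import Cfsg.Agent.EqLemmas

/-!
# Quadratic forms over finite fields of odd order: classification by the discriminant

* `exists_one_eq` : a binary form `a x² + b y²` takes the value `1`
* `exists_canonical` : diagonal forms reduce to `diag(1, …, 1, d)`
* `disc`, `disc_equiv`, `equivalent_iff_disc` : isometric iff the discriminants differ by a square
-/

set_option autoImplicit false

namespace Cfsg.Agent.QuadClass

open Matrix

variable {F : Type*} [Field F]

/-- `diag(w)` as a quadratic form. -/
noncomputable def diagForm {n : ℕ} (w : Fin n → F) : QuadraticForm F (Fin n → F) :=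
  QuadraticMap.weightedSumSquares F w

theorem diagForm_apply {n : ℕ} (w : Fin n → F) (v : Fin n → F) :
    diagForm w v = ∑ i, w i * (v i * v i) := by
  simp [diagForm, QuadraticMap.weightedSumSquares_apply, smul_eq_mul]

theorem exists_one_eq [Fintype F] (h2 : (2 : F) ≠ 0) {a b : F} (ha : a ≠ 0) (hb : b ≠ 0) :
    ∃ x y : F, a * x ^ 2 + b * y ^ 2 = 1 := by
  obtain ⟨x, y, h⟩ := FiniteField.exists_root_sum_quadratic
    (f := Polynomial.C a * Polynomial.X ^ 2) (g := Polynomial.C b * Polynomial.X ^ 2 - Polynomial.C 1)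
    (by rw [Polynomial.degree_C_mul_X_pow 2 ha]; rfl)
    (by rw [Polynomial.degree_sub_C (by rw [Polynomial.degree_C_mul_X_pow 2 hb]; norm_num),
          Polynomial.degree_C_mul_X_pow 2 hb]; rfl)
    (FiniteField.odd_card_of_char_ne_two fun h => h2 (by
      have := CharP.cast_eq_zero F (ringChar F)
      rw [h] at this; exact_mod_cast this))
  simp only [Polynomial.eval_mul, Polynomial.eval_sub, Polynomial.eval_C, Polynomial.eval_pow,
    Polynomial.eval_X] at h
  exact ⟨x, y, by linear_combination h⟩

theorem equivalent_tail {n : ℕ} (a : F) {w w' : Fin n → F}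
    (h : (diagForm w).Equivalent (diagForm w')) :
    (diagForm (Fin.cons a w : Fin (n + 1) → F)).Equivalent (diagForm (Fin.cons a w' : Fin (n + 1) → F)) := by
  obtain ⟨e⟩ := h
  let L : (Fin (n + 1) → F) ≃ₗ[F] (Fin (n + 1) → F) :=
    (Fin.consLinearEquiv F (fun _ : Fin (n + 1) => F)).symm ≪≫ₗ
      ((LinearEquiv.refl F F).prodCongr e.toLinearEquiv) ≪≫ₗ
      Fin.consLinearEquiv F (fun _ : Fin (n + 1) => F)
  refine ⟨⟨L, fun v => ?_⟩⟩
  have hv : L v = Fin.cons (v 0) (e (Fin.tail v)) := rfl
  show diagForm (Fin.cons a w') (L v) = diagForm (Fin.cons a w) v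
  rw [hv, diagForm_apply, diagForm_apply, Fin.sum_univ_succ, Fin.sum_univ_succ]
  simp only [Fin.cons_zero, Fin.cons_succ]
  rw [← diagForm_apply, e.map_app, diagForm_apply]
  rfl

theorem equivalent_pair [Fintype F] (h2 : (2 : F) ≠ 0) {n : ℕ} {a b : F} (ha : a ≠ 0) (hb : b ≠ 0)
    (w : Fin n → F) :
    (diagForm (Fin.cons a (Fin.cons b w : Fin (n + 1) → F) : Fin (n + 2) → F)).Equivalent
      (diagForm (Fin.cons 1 (Fin.cons (a * b) w : Fin (n + 1) → F) : Fin (n + 2) → F)) := by
  obtain ⟨x, y, hxy⟩ := exists_one_eq h2 ha hb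
  let L : (Fin (n + 2) → F) ≃ₗ[F] (Fin (n + 2) → F) :=
    { toFun := fun v => Fin.cons (x * v 0 - b * y * v 1)
        (Fin.cons (y * v 0 + a * x * v 1) (Fin.tail (Fin.tail v)))
      invFun := fun v => Fin.cons (a * x * v 0 + b * y * v 1)
        (Fin.cons (-y * v 0 + x * v 1) (Fin.tail (Fin.tail v)))
      map_add' := fun u v => by
        funext i
        induction i using Fin.cases with
        | zero => simp; ring
        | succ i =>
          induction i using Fin.cases with
          | zero => simp; ring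
          | succ i => simp [Fin.tail]
      map_smul' := fun c v => by
        funext i
        induction i using Fin.cases with
        | zero => simp; ring
        | succ i =>
          induction i using Fin.cases with
          | zero => simp; ring
          | succ i => simp [Fin.tail]
      left_inv := fun v => by
        funext i
        induction i using Fin.cases with
        | zero =>
          show a * x * (x * v 0 - b * y * v 1) + b * y * (y * v 0 + a * x * v 1) = v 0
          linear_combination (v 0) * hxy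
        | succ i =>
          induction i using Fin.cases with
          | zero =>
            show -y * (x * v 0 - b * y * v 1) + x * (y * v 0 + a * x * v 1) = v 1
            linear_combination (v 1) * hxy
          | succ i => simp [Fin.tail]
      right_inv := fun v => by
        funext i
        induction i using Fin.cases with
        | zero =>
          show x * (a * x * v 0 + b * y * v 1) - b * y * (-y * v 0 + x * v 1) = v 0
          linear_combination (v 0) * hxy
        | succ i =>
          induction i using Fin.cases with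
          | zero =>
            show y * (a * x * v 0 + b * y * v 1) + a * x * (-y * v 0 + x * v 1) = v 1
            linear_combination (v 1) * hxy
          | succ i => simp [Fin.tail] }
  refine QuadraticMap.Equivalent.symm ⟨⟨L, fun v => ?_⟩⟩
  show diagForm _ (L v) = diagForm _ v
  rw [diagForm_apply, diagForm_apply, Fin.sum_univ_succ, Fin.sum_univ_succ, Fin.sum_univ_succ,
    Fin.sum_univ_succ]
  simp [L, Fin.tail]
  linear_combination (v 0 * v 0 + a * b * (v 1 * v 1)) * hxy

/-- The weights `(1, …, 1, d)`. -/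
def canon : (n : ℕ) → F → Fin n → F
  | 0, _ => Fin.elim0
  | 1, d => fun _ => d
  | n + 2, d => Fin.cons 1 (canon (n + 1) d)

theorem prod_canon : ∀ (n : ℕ) (d : F), 1 ≤ n → ∏ i, canon n d i = d
  | 0, _, h => absurd h (by omega)
  | 1, d, _ => by simp [canon]
  | n + 2, d, _ => by
    rw [Fin.prod_univ_succ]
    simp [canon, prod_canon (n + 1) d (by omega)]

theorem exists_canonical [Fintype F] (h2 : (2 : F) ≠ 0) :
    ∀ (n : ℕ) (w : Fin n → F), (∀ i, w i ≠ 0) → (diagForm w).Equivalent (diagForm (canon n (∏ i, w i)))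
  | 0, w, _ => by
    rw [show canon 0 (∏ i, w i) = w from Subsingleton.elim _ _]
  | 1, w, _ => by
    have : canon 1 (∏ i, w i) = w := funext fun i => by simp [canon, Fin.fin_one_eq_zero i]
    rw [this]
  | n + 2, w, hw => by
    obtain ⟨a, b, t, rfl⟩ : ∃ a b, ∃ t : Fin n → F, w = Fin.cons a (Fin.cons b t : Fin (n + 1) → F) :=
      ⟨w 0, w 1, Fin.tail (Fin.tail w), by
        funext i
        induction i using Fin.cases with
        | zero => simp
        | succ i => induction i using Fin.cases <;> simp [Fin.tail]⟩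
    have ha : a ≠ 0 := by simpa using hw 0
    have hb : b ≠ 0 := by simpa using hw (Fin.succ 0)
    refine (equivalent_pair h2 ha hb t).trans ?_
    have ih := exists_canonical h2 (n + 1) (Fin.cons (a * b) t) fun i => by
      induction i using Fin.cases with
      | zero => simpa using mul_ne_zero ha hb
      | succ i => simpa using hw i.succ.succ
    convert equivalent_tail 1 ih using 2
    show canon (n + 2) _ = _
    simp [canon, Fin.prod_univ_succ, mul_assoc]

theorem canon_equivalent {n : ℕ} {d s : F} (hs : s ≠ 0) :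
    (diagForm (canon n (d * s ^ 2))).Equivalent (diagForm (canon n d)) := by
  match n with
  | 0 => rw [Subsingleton.elim (canon 0 (d * s ^ 2)) (canon 0 d)]
  | 1 =>
    refine ⟨⟨LinearEquiv.smulOfNeZero F (Fin 1 → F) s hs, fun v => ?_⟩⟩
    show diagForm _ (s • v) = _
    simp [diagForm_apply, canon]
    ring
  | n + 2 => exact equivalent_tail 1 (canon_equivalent (n := n + 1) hs)

/-- The Gram determinant of the polar form. -/
noncomputable def disc {n : ℕ} (Q : QuadraticForm F (Fin n → F)) : F :=
  (LinearMap.BilinForm.toMatrix' (QuadraticMap.polarBilin Q)).det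

theorem disc_eq {n : ℕ} (Q : QuadraticForm F (Fin n → F)) :
    disc Q = (Matrix.of fun i j : Fin n =>
      QuadraticMap.polar ⇑Q (Pi.single i 1) (Pi.single j 1)).det := by
  rw [disc]
  congr 1

theorem disc_equiv {n : ℕ} {Q Q' : QuadraticForm F (Fin n → F)} (h : Q.Equivalent Q') :
    ∃ s : F, s ≠ 0 ∧ disc Q = s ^ 2 * disc Q' := by
  obtain ⟨e⟩ := h
  refine ⟨(LinearMap.toMatrix' e.toLinearEquiv.toLinearMap).det, ?_, ?_⟩
  · rw [LinearMap.det_toMatrix']
    exact e.toLinearEquiv.isUnit_det'.ne_zero
  · have hc : QuadraticMap.polarBilin Q =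
        LinearMap.BilinForm.comp (QuadraticMap.polarBilin Q') e.toLinearEquiv.toLinearMap
          e.toLinearEquiv.toLinearMap := by
      refine LinearMap.ext fun u => LinearMap.ext fun v => ?_
      show QuadraticMap.polar ⇑Q u v = QuadraticMap.polar ⇑Q' (e u) (e v)
      simp [QuadraticMap.polar, ← map_add, e.map_app]
    rw [disc, disc, hc, LinearMap.BilinForm.toMatrix'_comp, Matrix.det_mul, Matrix.det_mul,
      Matrix.det_transpose]
    ring

theorem disc_diag {n : ℕ} (w : Fin n → F) : disc (diagForm w) = 2 ^ n * ∏ i, w i := by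
  classical
  have : LinearMap.BilinForm.toMatrix' (QuadraticMap.polarBilin (diagForm w)) =
      Matrix.diagonal fun i => 2 * w i := by
    ext i j
    rw [LinearMap.BilinForm.toMatrix'_apply, QuadraticMap.polarBilin_apply_apply, QuadraticMap.polar,
      diagForm_apply, diagForm_apply, diagForm_apply, ← Finset.sum_sub_distrib, ← Finset.sum_sub_distrib,
      Matrix.diagonal_apply]
    rcases eq_or_ne i j with rfl | hne
    · rw [if_pos rfl, Finset.sum_eq_single i]
      · simp; ring
      · intro k _ hk; simp [Pi.single_apply, hk]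
      · simp
    · rw [if_neg hne]
      refine Finset.sum_eq_zero fun k _ => ?_
      rcases eq_or_ne k i with rfl | hk
      · simp [Pi.single_apply, hne]
      · simp [Pi.single_apply, hk]
  rw [disc, this, Matrix.det_diagonal, Finset.prod_mul_distrib, Finset.prod_const, Finset.card_univ,
    Fintype.card_fin]

theorem disc_ne_zero {n : ℕ} (Q : QuadraticForm F (Fin n → F))
    (hQ : (QuadraticMap.polarBilin Q).Nondegenerate) : disc Q ≠ 0 :=
  Matrix.nondegenerate_iff_det_ne_zero.1 (LinearMap.BilinForm.nondegenerate_toMatrix'_iff.2 hQ)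

theorem exists_diag (h2 : (2 : F) ≠ 0) {n : ℕ} (Q : QuadraticForm F (Fin n → F))
    (hQ : (QuadraticMap.polarBilin Q).Nondegenerate) :
    ∃ w : Fin n → F, (∀ i, w i ≠ 0) ∧ Q.Equivalent (diagForm w) := by
  haveI : Invertible (2 : F) := invertibleOfNonzero h2
  obtain ⟨w, hw⟩ : ∃ w : Fin n → F, Q.Equivalent (diagForm w) := by
    obtain ⟨w, hw⟩ := QuadraticForm.equivalent_weightedSumSquares Q
    have hn : Module.finrank F (Fin n → F) = n := Module.finrank_fin_fun F
    let e := LinearEquiv.funCongrLeft F F (finCongr hn)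
    refine ⟨w ∘ (finCongr hn).symm, hw.trans (QuadraticMap.Equivalent.symm ⟨⟨e, fun v => ?_⟩⟩)⟩
    show QuadraticMap.weightedSumSquares F w (e v) = diagForm _ v
    rw [diagForm_apply, QuadraticMap.weightedSumSquares_apply, ← (finCongr hn).sum_comp]
    exact Finset.sum_congr rfl fun i _ => by simp [e]
  refine ⟨w, fun i hi => disc_ne_zero Q hQ ?_, hw⟩
  obtain ⟨s, -, hs⟩ := disc_equiv hw
  rw [hs, disc_diag, Finset.prod_eq_zero (Finset.mem_univ i) hi]
  ring

theorem equivalent_iff_disc [Fintype F] (h2 : (2 : F) ≠ 0) {n : ℕ}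
    (Q₁ Q₂ : QuadraticForm F (Fin n → F)) (h₁ : (QuadraticMap.polarBilin Q₁).Nondegenerate)
    (h₂ : (QuadraticMap.polarBilin Q₂).Nondegenerate) :
    Q₁.Equivalent Q₂ ↔ IsSquare (disc Q₁ * disc Q₂) := by
  constructor
  · intro h
    obtain ⟨s, -, hs⟩ := disc_equiv h
    exact ⟨s * disc Q₂, by rw [hs]; ring⟩
  · intro hsq
    obtain ⟨w₁, hw₁, e₁⟩ := exists_diag h2 Q₁ h₁
    obtain ⟨w₂, hw₂, e₂⟩ := exists_diag h2 Q₂ h₂
    obtain ⟨s₁, hs₁, d₁⟩ := disc_equiv e₁
    obtain ⟨s₂, hs₂, d₂⟩ := disc_equiv e₂
    have hp : ∏ i, w₂ i ≠ 0 := Finset.prod_ne_zero_iff.2 fun i _ => hw₂ i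
    have h20 : (2 : F) ^ n ≠ 0 := pow_ne_zero _ h2
    obtain ⟨u, hu⟩ := hsq
    rw [d₁, d₂, disc_diag, disc_diag] at hu
    have key : ∏ i, w₁ i = (∏ i, w₂ i) * (u / (s₁ * s₂ * 2 ^ n * ∏ i, w₂ i)) ^ 2 := by
      field_simp
      linear_combination hu
    have hne : u / (s₁ * s₂ * 2 ^ n * ∏ i, w₂ i) ≠ 0 := by
      intro h0
      rw [h0] at key
      simp [Finset.prod_ne_zero_iff.2 (fun i _ => hw₁ i)] at key
    refine e₁.trans ((exists_canonical h2 n w₁ hw₁).trans ?_)
    rw [key]
    exact (canon_equivalent hne).trans ((exists_canonical h2 n w₂ hw₂).symm.trans e₂.symm)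

end Cfsg.Agent.QuadClass
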